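import Groth.Agent.Lefpen.H365.Ev2
import Groth.Agent.EtpbcA.EqLocus

/-!
# Sections of `R^n f_* F` over `Spec K` are the Galois invariant classes on `X_Ω`
-/

set_option autoImplicit false
universe u
open CategoryTheory CategoryTheory.Limits AlgebraicGeometry Opposite Abelian
open scoped Groth.Agent.Etcore.EtInst
open Groth.Agent.Etcore.EtInst

namespace Groth.Agent.Lefpen.H365.B1

open Groth.Agent.Etcore Groth.Agent.Etcore.HQ Groth.Agent.Etcore.RpushLoc
open Groth.Agent.EtpbcB.Big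
open Groth.Agent.Lefpen.H365.FieldPts Groth.Agent.Lefpen.H365.Edge Groth.Agent.Lefpen.H365.Ev
  Groth.Agent.Lefpen.H365.Ev2
open Groth.Agent.Lefpen.H712.HT

section General

variable {Y : Scheme.{u}}

/-- The map to the final object. -/
noncomputable def toT (V : Y.Etale) : V ⟶ EtCoh.top Y := (EtCore.topIsTerminal Y).from V

theorem toT_ext {V : Y.Etale} (a b : V ⟶ EtCoh.top Y) : a = b := (EtCore.topIsTerminal Y).hom_ext a b

theorem map_map (G : EtCoh.Ab Y) {U V : Y.Etale} (a : U ⟶ V) (s : EtCoh.sect G (EtCoh.top Y)) :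
    G.obj.map a.op (G.obj.map (toT V).op s) = G.obj.map (toT U).op s := by
  rw [et_map_map, toT_ext (a ≫ toT V) (toT U)]

end General

variable {K Ω : Type u} [Field K] [Field Ω] [Algebra K Ω] [Algebra.IsSeparable K Ω]
  {X : Scheme.{u}} {f : X ⟶ Spec (CommRingCat.of K)}
  {F : EtCoh.Ab X} {n : ℕ} {G : EtCoh.Ab (Spec (CommRingCat.of K))} (E : Edge f F n G)

/-- `s` and `x` come from the same class at some finite level. -/
structure Rel (s : EtCoh.sect G (EtCoh.top (Spec (CommRingCat.of K)))) (x : HT f F (xi K Ω) n) :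
    Prop where
  out : ∃ (L : FinSub K Ω) (y : HQ F (pr f (VL K Ω L)) n),
    E.e (VL K Ω L) y = G.obj.map (toT (VL K Ω L)).op s ∧ ev f F (rL L) (rL_hom L) n y = x

/-- `Rel` from an arbitrary étale `V`. -/
theorem rel_of {V : (Spec (CommRingCat.of K)).Etale} (r : Spec (CommRingCat.of Ω) ⟶ V.left)
    (hr : r ≫ V.hom = xi K Ω) (y : HQ F (pr f V) n)
    (s : EtCoh.sect G (EtCoh.top (Spec (CommRingCat.of K)))) (h : E.e V y = G.obj.map (toT V).op s) :
    Rel E s (ev f F r hr n y) := by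
  obtain ⟨L, a, ha⟩ := exists_fac V r hr
  refine ⟨⟨L, res F (mm f a) (mm_pr f a) n y, ?_, ev_mm f F a (rL L) (rL_hom L) r hr ha n y⟩⟩
  rw [← E.nat, h, map_map]

theorem rel_up {L M : FinSub K Ω} (h : L ≤ M) (y : HQ F (pr f (VL K Ω L)) n)
    (s : EtCoh.sect G (EtCoh.top (Spec (CommRingCat.of K))))
    (hy : E.e (VL K Ω L) y = G.obj.map (toT (VL K Ω L)).op s) :
    ∃ y' : HQ F (pr f (VL K Ω M)) n, E.e (VL K Ω M) y' = G.obj.map (toT (VL K Ω M)).op s ∧
      ev f F (rL M) (rL_hom M) n y' = ev f F (rL L) (rL_hom L) n y := by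
  refine ⟨res F (mm f (tr h)) (mm_pr f (tr h)) n y, ?_,
    ev_mm f F (tr h) (rL M) (rL_hom M) (rL L) (rL_hom L) (rL_tr h) n y⟩
  rw [← E.nat, hy, map_map]

variable {E}

theorem Rel.add {s s' : EtCoh.sect G (EtCoh.top (Spec (CommRingCat.of K)))}
    {x x' : HT f F (xi K Ω) n} (h : Rel E s x) (h' : Rel E s' x') : Rel E (s + s') (x + x') := by
  obtain ⟨⟨L, y, hy, rfl⟩⟩ := h
  obtain ⟨⟨L', y', hy', rfl⟩⟩ := h'
  obtain ⟨M, h1, h2⟩ := exists_ge_ge L L'
  obtain ⟨z, hz, hz'⟩ := rel_up E h1 y s hy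
  obtain ⟨z', hz1, hz2⟩ := rel_up E h2 y' s' hy'
  refine ⟨⟨M, z + z', ?_, ?_⟩⟩
  · rw [map_add, map_add, hz, hz1]
  · rw [map_add, hz', hz2]

theorem Rel.neg {s : EtCoh.sect G (EtCoh.top (Spec (CommRingCat.of K)))}
    {x : HT f F (xi K Ω) n} (h : Rel E s x) : Rel E (-s) (-x) := by
  obtain ⟨⟨L, y, hy, rfl⟩⟩ := h
  refine ⟨⟨L, -y, ?_, ?_⟩⟩
  · rw [map_neg, map_neg, hy]
  · rw [map_neg]

theorem Rel.sub {s s' : EtCoh.sect G (EtCoh.top (Spec (CommRingCat.of K)))}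
    {x x' : HT f F (xi K Ω) n} (h : Rel E s x) (h' : Rel E s' x') : Rel E (s - s') (x - x') := by
  rw [sub_eq_add_neg, sub_eq_add_neg]
  exact h.add h'.neg

variable [IsSepClosed Ω]

theorem exists_lift {V : (Spec (CommRingCat.of K)).Etale} (v : V.left) :
    ∃ r : Spec (CommRingCat.of Ω) ⟶ V.left, r ≫ V.hom = xi K Ω ∧ r default = v := by
  have : Etale V.hom := V.prop
  exact Scheme.exists_fac_of_etale_of_isSepClosed V.hom (xi K Ω) v
    (Subsingleton.elim (α := PrimeSpectrum K) _ _)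

variable (E) in
theorem exists_rel (s : EtCoh.sect G (EtCoh.top (Spec (CommRingCat.of K)))) :
    ∃ x : HT f F (xi K Ω) n, Rel E s x := by
  obtain ⟨V, k, v, y, -, hy⟩ := E.surj (EtCoh.top (Spec (CommRingCat.of K))) s
    ((xi K Ω) default)
  obtain ⟨r, hr, -⟩ := exists_lift (Ω := Ω) v
  refine ⟨_, rel_of E r hr y s ?_⟩
  rw [hy, toT_ext k (toT V)]

theorem Rel.eq_zero {x : HT f F (xi K Ω) n} (h : Rel E 0 x) : x = 0 := by
  obtain ⟨⟨L, y, hy, rfl⟩⟩ := h
  rw [map_zero] at hy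
  obtain ⟨V, k, v, hv, h0⟩ := E.inj (VL K Ω L) y hy (rL L default)
  obtain ⟨r, hr, -⟩ := Scheme.exists_fac_of_etale_of_isSepClosed k.left (rL L) v hv
  have hr' : r ≫ V.hom = xi K Ω := by
    rw [← et_w k, ← Category.assoc, hr, rL_hom]
  rw [← ev_mm f F k r hr' (rL L) (rL_hom L) hr n y, h0, map_zero]

theorem Rel.unique {s : EtCoh.sect G (EtCoh.top (Spec (CommRingCat.of K)))}
    {x x' : HT f F (xi K Ω) n} (h : Rel E s x) (h' : Rel E s x') : x = x' := by
  have h1 := h.sub h'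
  rw [sub_self] at h1
  exact sub_eq_zero.1 h1.eq_zero

/-- The classes attached to sections are invariant. -/
theorem Rel.inv {s : EtCoh.sect G (EtCoh.top (Spec (CommRingCat.of K)))}
    {x : HT f F (xi K Ω) n} (h : Rel E s x)
    (φ : Spec (CommRingCat.of Ω) ⟶ Spec (CommRingCat.of Ω)) (hφ : φ ≫ xi K Ω = xi K Ω) :
    rs f F φ hφ n x = x := by
  refine Rel.unique (E := E) (s := s) ?_ h
  obtain ⟨⟨L, y, hy, rfl⟩⟩ := h
  rw [rs_ev]
  exact rel_of E _ _ y s hy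

variable [QuasiCompact f] [QuasiSeparated f]

/-- A section whose class is zero vanishes. -/
theorem Rel.eq_zero_left {s : EtCoh.sect G (EtCoh.top (Spec (CommRingCat.of K)))}
    (h : Rel E s (0 : HT f F (xi K Ω) n)) : s = 0 := by
  obtain ⟨⟨L, y, hy, h0⟩⟩ := h
  obtain ⟨M, k, hk, hM⟩ := exists_res_eq_zero f F n (rL L) (rL_hom L) y h0
  apply Etbase.EtSite.sect_eq_zero
  intro x
  refine ⟨VL K Ω M, toT _, rL M default, Subsingleton.elim (α := PrimeSpectrum K) _ _, ?_⟩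
  rw [← map_map G k s, ← hy, E.nat, hM, map_zero]

variable (E) in
/-- An invariant class comes from a section. -/
theorem exists_rel_of_inv (x : HT f F (xi K Ω) n)
    (h : ∀ σ : Ω ≃ₐ[K] Ω, ∀ hσ : Spec.map (CommRingCat.ofHom (σ : Ω →+* Ω)) ≫ xi K Ω = xi K Ω,
      rs f F (Spec.map (CommRingCat.ofHom (σ : Ω →+* Ω))) hσ n x = x) :
    ∃ s : EtCoh.sect G (EtCoh.top (Spec (CommRingCat.of K))), Rel E s x := by
  obtain ⟨L, y, hy⟩ := exists_ev f F n x
  -- all evaluations of `y` agree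
  have key : ∀ (ρ : Spec (CommRingCat.of Ω) ⟶ (VL K Ω L).left) (hρ : ρ ≫ (VL K Ω L).hom = xi K Ω),
      ev f F ρ hρ n y = x := by
    intro ρ hρ
    obtain ⟨σ, hσ⟩ := exists_aut L ρ hρ
    have e : Spec.map (CommRingCat.ofHom (σ : Ω →+* Ω)) ≫ xi K Ω = xi K Ω := by
      rw [← rL_hom L, ← Category.assoc, hσ, hρ, rL_hom]
    have h1 := h σ e
    rw [← hy, rs_ev, hy] at h1
    rw [← h1]
    exact ev_congr f F hσ.symm hρ _ n y
  obtain ⟨s, hs⟩ := EtpbcA.EqLocus.exists_glue G (U := EtCoh.top (Spec (CommRingCat.of K)))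
    (fun _ : Unit => VL K Ω L) (fun _ => toT _)
    (fun x => ⟨(), rL L default, Subsingleton.elim (α := PrimeSpectrum K) _ _⟩)
    (fun _ => E.e (VL K Ω L) y) (by
      intro _ _ W a b _
      rw [E.nat, E.nat, ← sub_eq_zero, ← map_sub]
      apply Etbase.EtSite.sect_eq_zero
      intro w
      obtain ⟨ρ, hρ, rfl⟩ := exists_lift (Ω := Ω) w
      have h2 : ev f F ρ hρ n (res F (mm f a) (mm_pr f a) n y - res F (mm f b) (mm_pr f b) n y) = 0 := by
        rw [map_sub, ev_mm f F a ρ hρ (ρ ≫ a.left) (by rw [Category.assoc, et_w, hρ]) rfl n y,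
          ev_mm f F b ρ hρ (ρ ≫ b.left) (by rw [Category.assoc, et_w, hρ]) rfl n y, key, key, sub_self]
      obtain ⟨M, k, hk, h3⟩ := exists_res_eq_zero f F n ρ hρ _ h2
      refine ⟨VL K Ω M, k, rL M default, ?_, ?_⟩
      · rw [← hk]; rfl
      · rw [E.nat, h3, map_zero])
  exact ⟨s, ⟨L, y, (hs ()).symm, hy⟩⟩

omit [Algebra.IsSeparable K Ω] [IsSepClosed Ω] in
/-- `σ` over `Spec K` -/
theorem spec_map_comp (σ : Ω ≃ₐ[K] Ω) :
    Spec.map (CommRingCat.ofHom (σ : Ω →+* Ω)) ≫ Spec.map (CommRingCat.ofHom (algebraMap K Ω)) =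
      Spec.map (CommRingCat.ofHom (algebraMap K Ω)) := by
  rw [← Spec.map_comp, ← CommRingCat.ofHom_comp]
  congr 2
  ext x
  simp

/-- Global sections of `G` are the invariant classes. -/
theorem nonempty_sect_equiv (E : Edge f F n G) (I : AddSubgroup (HT f F (xi K Ω) n))
    (hI : ∀ x, x ∈ I ↔ ∀ σ : Ω ≃ₐ[K] Ω,
      rs f F (Spec.map (CommRingCat.ofHom (σ : Ω →+* Ω))) (spec_map_comp σ) n x = x) :
    Nonempty (EtCoh.sect G (EtCoh.top (Spec (CommRingCat.of K))) ≃+ I) := by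
  choose Φ hΦ using fun s : EtCoh.sect G (EtCoh.top (Spec (CommRingCat.of K))) =>
    exists_rel (Ω := Ω) E s
  have hinv : ∀ s, Φ s ∈ I := fun s =>
    (hI _).2 fun σ => (hΦ s).inv _ (spec_map_comp σ)
  let Ψ : EtCoh.sect G (EtCoh.top (Spec (CommRingCat.of K))) →+ I :=
    AddMonoidHom.mk' (fun s => ⟨Φ s, hinv s⟩) (fun s t =>
      Subtype.ext ((hΦ (s + t)).unique ((hΦ s).add (hΦ t))))
  refine ⟨AddEquiv.ofBijective Ψ ⟨?_, ?_⟩⟩
  · rw [injective_iff_map_eq_zero]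
    intro s hs
    have h0 : Φ s = 0 := congrArg Subtype.val hs
    have h1 := hΦ s
    rw [h0] at h1
    exact h1.eq_zero_left
  · rintro ⟨x, hx⟩
    obtain ⟨s, hs⟩ := exists_rel_of_inv E x (fun σ _ => (hI x).1 hx σ)
    exact ⟨s, Subtype.ext ((hΦ s).unique hs)⟩

omit [Algebra.IsSeparable K Ω] [IsSepClosed Ω] in
/-- (B1) sections of `R^q f_* F` over `Spec K` are the Galois invariant classes -/
theorem b1 [IsSepClosure K Ω] (f : X ⟶ Spec (CommRingCat.of K)) [QuasiCompact f] [QuasiSeparated f]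
    (F : EtCoh.Ab X) (q : ℕ) :
    Nonempty (EtCoh.H (Spec (CommRingCat.of K)) ((EtCoh.Rpush f q).obj F) 0 ≃+
      (⨅ σ : Ω ≃ₐ[K] Ω, (rs f F (Spec.map (CommRingCat.ofHom (σ : Ω →+* Ω))) (spec_map_comp σ) q -
        AddMonoidHom.id (HT f F (Spec.map (CommRingCat.ofHom (algebraMap K Ω))) q)).ker :
        AddSubgroup (HT f F (Spec.map (CommRingCat.ofHom (algebraMap K Ω))) q))) := by
  have h1 : Algebra.IsSeparable K Ω := IsSepClosure.separable
  have h2 : IsSepClosed Ω := IsSepClosure.sep_closed K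
  obtain ⟨E⟩ := nonempty_edge f F q
  obtain ⟨e⟩ := nonempty_sect_equiv (Ω := Ω) E
    (⨅ σ : Ω ≃ₐ[K] Ω, (rs f F (Spec.map (CommRingCat.ofHom (σ : Ω →+* Ω))) (spec_map_comp σ) q -
        AddMonoidHom.id (HT f F (Spec.map (CommRingCat.ofHom (algebraMap K Ω))) q)).ker) (fun x => by
    rw [AddSubgroup.mem_iInf]
    refine forall_congr' fun σ => ?_
    rw [AddMonoidHom.mem_ker, AddMonoidHom.sub_apply, AddMonoidHom.id_apply, sub_eq_zero])
  exact ⟨(HpullCalc.H0 (Spec (CommRingCat.of K)) ((EtCoh.Rpush f q).obj F)).trans e⟩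

end Groth.Agent.Lefpen.H365.B1
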