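import Groth.Agent.Etcore.RpushLoc

/-!
# Edge maps `H^n(X ×_Y V, F) ⟶ Γ(V, R^n f_* F)`

`Edge f F n G`: natural additive maps `e V : H^n(X ×_Y V, F) ⟶ G(V)` for `V` étale over `Y`, which are locally
injective and locally surjective.  `nonempty_edge`: such maps exist for `G = R^n f_* F`.

(All constructions are theorems: in a `def` Lean replaces the proofs `HasExt _` by auxiliary constants, which
makes the kernel slow.)
-/

set_option autoImplicit false
set_option linter.dupNamespace false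
universe u
open CategoryTheory CategoryTheory.Limits AlgebraicGeometry Opposite Abelian
open scoped Groth.Agent.Etcore.EtInst
open Groth.Agent.Etcore.EtInst

namespace Groth.Agent.Lefpen.H365.Edge

open Groth.Agent.Etcore Groth.Agent.Etcore.HQ Groth.Agent.Etcore.RpushLoc

/-! ### Groups -/

theorem exists_lift_hom {A B C : Type*} [AddCommGroup A] [AddCommGroup B] [AddCommGroup C] (d : A →+ B)
    (hd : Function.Surjective d) (g : A →+ C) (h : ∀ x, d x = 0 → g x = 0) :
    ∃ e : B →+ C, ∀ x, e (d x) = g x :=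
  ⟨d.liftOfSurjective hd ⟨g, fun x hx => h x hx⟩, fun x =>
    AddMonoidHom.liftOfRightInverse_comp_apply d _ _ ⟨g, fun x hx => h x hx⟩ x⟩

theorem exists_equiv {A B : Type*} [AddCommGroup A] [AddCommGroup B] (s : A → B)
    (hs : ∀ x y, s (x + y) = s x + s y) (hb : Function.Bijective s) :
    ∃ e : B →+ A, (∀ x, e (s x) = x) ∧ (∀ y, e y = 0 → y = 0) := by
  let E : A ≃+ B := AddEquiv.ofBijective (AddMonoidHom.mk' s hs) hb
  refine ⟨E.symm.toAddMonoidHom, fun x => E.symm_apply_apply x, fun y hy => ?_⟩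
  exact E.symm.injective (hy.trans (map_zero _).symm)

variable {X Y : Scheme.{u}} (f : X ⟶ Y)

/-- Natural, locally injective and locally surjective maps `H^n(X ×_Y V, F) ⟶ G(V)`. -/
structure Edge (F : EtCoh.Ab X) (n : ℕ) (G : EtCoh.Ab Y) where
  /-- the maps -/
  e : ∀ V : Y.Etale, HQ F (pr f V) n →+ EtCoh.sect G V
  nat : ∀ {V V' : Y.Etale} (k : V' ⟶ V) (x : HQ F (pr f V) n),
    G.obj.map k.op (e V x) = e V' (res F (mm f k) (mm_pr f k) n x)
  inj : ∀ (V : Y.Etale) (x : HQ F (pr f V) n), e V x = 0 → ∀ v : V.left,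
    ∃ (V' : Y.Etale) (k : V' ⟶ V) (v' : V'.left), k.left v' = v ∧
      res F (mm f k) (mm_pr f k) n x = 0
  surj : ∀ (V : Y.Etale) (s : EtCoh.sect G V) (v : V.left),
    ∃ (V' : Y.Etale) (k : V' ⟶ V) (v' : V'.left) (x : HQ F (pr f V') n), k.left v' = v ∧
      e V' x = G.obj.map k.op s

variable {f}

theorem iso_app_inv_hom {G G' : EtCoh.Ab Y} (i : G ≅ G') (V : Y.Etale) (s : EtCoh.sect G V) :
    i.inv.hom.app (op V) (i.hom.hom.app (op V) s) = s :=
  congrArg (fun t : G ⟶ G => t.hom.app (op V) s) i.hom_inv_id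

theorem iso_app_hom_inv {G G' : EtCoh.Ab Y} (i : G ≅ G') (V : Y.Etale) (s : EtCoh.sect G' V) :
    i.hom.hom.app (op V) (i.inv.hom.app (op V) s) = s :=
  congrArg (fun t : G' ⟶ G' => t.hom.app (op V) s) i.inv_hom_id

theorem map_id_apply (G : EtCoh.Ab Y) (V : Y.Etale) (s : EtCoh.sect G V) :
    G.obj.map (𝟙 V).op s = s := by
  have h : G.obj.map (𝟙 V).op = 𝟙 _ := by
    rw [op_id, CategoryTheory.Functor.map_id]
  exact ConcreteCategory.congr_hom h s

/-- Transport along an isomorphism. -/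
theorem nonempty_ofIso {F : EtCoh.Ab X} {n : ℕ} {G G' : EtCoh.Ab Y} (E : Edge f F n G) (i : G ≅ G') :
    Nonempty (Edge f F n G') := by
  refine ⟨{ e := fun V => (i.hom.hom.app (op V)).hom.comp (E.e V), nat := ?_, inj := ?_, surj := ?_ }⟩
  · intro V V' k x
    have h := ConcreteCategory.congr_hom (i.hom.hom.naturality k.op) (E.e V x)
    refine Eq.trans h.symm ?_
    exact congrArg (i.hom.hom.app (op V')) (E.nat k x)
  · intro V x h v
    refine E.inj V x ?_ v
    have h1 : i.hom.hom.app (op V) (E.e V x) = 0 := h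
    rw [← iso_app_inv_hom i V (E.e V x), h1, map_zero]
  · intro V s v
    obtain ⟨V', k, v', x, hv, hx⟩ := E.surj V (i.inv.hom.app (op V) s) v
    refine ⟨V', k, v', x, hv, ?_⟩
    have h := ConcreteCategory.congr_hom (i.inv.hom.naturality k.op) s
    have h2 : i.hom.hom.app (op V') (E.e V' x) = G'.obj.map k.op s := by
      rw [hx]
      refine (congrArg (i.hom.hom.app (op V')) h.symm).trans ?_
      exact iso_app_hom_inv i V' _
    exact h2

/-- Degree zero. -/
theorem exists_edgeZero (f : X ⟶ Y) (F : EtCoh.Ab X) :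
    ∃ E : Edge f F 0 ((EtCoh.push f).obj F), ∀ (V : Y.Etale) (s : EtCoh.sect F ((EtCoh.bc f).obj V)),
      E.e V (secP f F V s) = s := by
  have h : ∀ V : Y.Etale, ∃ e : HQ F (pr f V) 0 →+ EtCoh.sect ((EtCoh.push f).obj F) V,
      (∀ s, e (secP f F V s) = s) ∧ (∀ x, e x = 0 → x = 0) := fun V =>
    exists_equiv (A := EtCoh.sect ((EtCoh.push f).obj F) V) (secP f F V)
      (fun s t => sec_add F _ _ _ s t) (secP_bijective f F V)
  choose e he hinj using h
  refine ⟨{ e := e, nat := ?_, inj := ?_, surj := ?_ }, he⟩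
  · intro V V' k x
    obtain ⟨s, rfl⟩ := (secP_bijective f F V).2 x
    rw [he, res_secP, he]
    rfl
  · intro V x h v
    refine ⟨V, 𝟙 V, v, rfl, ?_⟩
    rw [hinj V x h, map_zero]
  · intro V s v
    exact ⟨V, 𝟙 V, v, secP f F V s, rfl, (he V s).trans (map_id_apply _ V s).symm⟩

section Step

variable {S : ShortComplex (EtCoh.Ab X)} (hS : S.ShortExact) (n : ℕ)
  (h2 : ∀ (V : Y.Etale) (x : HQ S.X₂ (pr f V) (n + 1)), x = 0) {G₃ G : EtCoh.Ab Y}
  (E : Edge f S.X₃ n G₃) (p : G₃ ⟶ G)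

include h2 in
theorem δ_surjective (V : Y.Etale) : Function.Surjective (δ hS (pr f V) n) :=
  fun x => exists_δ_eq hS (pr f V) n x (h2 V _)

include h2 in
theorem exists_e (h0 : ∀ (V : Y.Etale) (x : HQ S.X₃ (pr f V) n), δ hS (pr f V) n x = 0 →
      p.hom.app (op V) (E.e V x) = 0) (V : Y.Etale) :
    ∃ e : HQ S.X₁ (pr f V) (n + 1) →+ EtCoh.sect G V,
      ∀ y : HQ S.X₃ (pr f V) n, e (δ hS (pr f V) n y) = p.hom.app (op V) (E.e V y) :=
  exists_lift_hom (δ hS (pr f V) n) (δ_surjective hS n h2 V)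
    ((p.hom.app (op V)).hom.comp (E.e V)) (fun x hx => h0 V x hx)

include h2 in
/-- The step `n ⟶ n + 1`. -/
theorem nonempty_step
    (hp : ∀ (V : Y.Etale) (s : EtCoh.sect G V) (v : V.left), ∃ (V' : Y.Etale) (k : V' ⟶ V)
      (v' : V'.left) (t : EtCoh.sect G₃ V'), k.left v' = v ∧ p.hom.app (op V') t = G.obj.map k.op s)
    (h0 : ∀ (V : Y.Etale) (x : HQ S.X₃ (pr f V) n), δ hS (pr f V) n x = 0 →
      p.hom.app (op V) (E.e V x) = 0)
    (h1 : ∀ (V : Y.Etale) (x : HQ S.X₃ (pr f V) n), p.hom.app (op V) (E.e V x) = 0 → ∀ v : V.left,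
      ∃ (V' : Y.Etale) (k : V' ⟶ V) (v' : V'.left), k.left v' = v ∧
        δ hS (pr f V') n (res S.X₃ (mm f k) (mm_pr f k) n x) = 0) : Nonempty (Edge f S.X₁ (n + 1) G) := by
  choose e he using exists_e hS n h2 E p h0
  refine ⟨{ e := e, nat := ?_, inj := ?_, surj := ?_ }⟩
  · intro V V' k x
    obtain ⟨y, rfl⟩ := δ_surjective hS n h2 V x
    rw [he, res_δ, he, ← E.nat]
    exact (ConcreteCategory.congr_hom (p.hom.naturality k.op) (E.e V y)).symm
  · intro V x hx v
    obtain ⟨y, rfl⟩ := δ_surjective hS n h2 V x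
    rw [he] at hx
    obtain ⟨V', k, v', hv, h⟩ := h1 V y hx v
    exact ⟨V', k, v', hv, by rw [res_δ, h]⟩
  · intro V s v
    obtain ⟨V₁, k₁, v₁, t, hv₁, ht⟩ := hp V s v
    obtain ⟨V₂, k₂, v₂, x, hv₂, hx⟩ := E.surj V₁ t v₁
    refine ⟨V₂, k₂ ≫ k₁, v₂, δ hS (pr f V₂) n x, ?_, ?_⟩
    · rw [← hv₁, ← hv₂]
      rfl
    · rw [he, hx]
      have h3 := ConcreteCategory.congr_hom (p.hom.naturality k₂.op) t
      refine Eq.trans h3 ?_
      refine (congrArg (G.obj.map k₂.op) ht).trans ?_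
      have h4 : G.obj.map (k₂ ≫ k₁).op = G.obj.map k₁.op ≫ G.obj.map k₂.op := by
        rw [op_comp, CategoryTheory.Functor.map_comp]
      exact (ConcreteCategory.congr_hom h4 s).symm

end Step

/-- A section of a cokernel vanishing is locally an image. -/
theorem locIm_of_cokernel {G F : EtCoh.Ab Y} (φ : G ⟶ F) {U : Y.Etale} (s : EtCoh.sect F U)
    (x : U.left) (h : (cokernel.π φ).hom.app (op U) s = 0) : EtpbcA.StalkTools.LocIm φ s x := by
  obtain ⟨Ω, _, _, ζ, hζ⟩ := EtpbcA.StalkTools.exists_geomPt x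
  have h1 := EtpbcA.StalkTools.locIm_iff (ζ ≫ U.hom) φ s (EtpbcA.StalkTools.fibMk ζ)
  have h2 : EtpbcA.StalkTools.fibPt (ζ ≫ U.hom) (EtpbcA.StalkTools.fibMk ζ) = x := hζ
  rw [h2] at h1
  rw [h1]
  let ξ := ζ ≫ U.hom
  let T : ShortComplex (EtCoh.Ab Y) := ShortComplex.mk φ (cokernel.π φ) (cokernel.condition _)
  have hT : T.Exact := ShortComplex.exact_of_g_is_cokernel _ (cokernelIsCokernel _)
  have hT' : (T.map (EtCoh.stalk ξ)).Exact := hT.map (EtCoh.stalk ξ)
  rw [ShortComplex.ab_exact_iff] at hT'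
  refine hT' (EtpbcA.StalkTools.germ ξ (EtpbcA.StalkTools.fibMk ζ) s) ?_
  have h3 := EtpbcA.StalkTools.stalk_map_germ ξ (cokernel.π φ) (EtpbcA.StalkTools.fibMk ζ) s
  rw [h] at h3
  refine h3.trans ?_
  exact map_zero (ConcreteCategory.hom ((Scheme.pointSmallEtale ξ).toPresheafFiber U
    (EtpbcA.StalkTools.fibMk ζ) (cokernel φ).obj))

theorem nonempty_edge_one {S : ShortComplex (EtCoh.Ab X)} (hS : S.ShortExact)
    (h2 : ∀ (V : Y.Etale) (x : HQ S.X₂ (pr f V) 1), x = 0) :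
    Nonempty (Edge f S.X₁ 1 (cokernel ((EtCoh.push f).map S.g))) := by
  obtain ⟨E, hE⟩ := exists_edgeZero f S.X₃
  refine nonempty_step hS 0 h2 E (cokernel.π _) ?_ ?_ ?_
  · intro V s v
    obtain ⟨V', k, v', hv', t, ht⟩ :=
      (EtpbcA.StalkTools.epi_iff_locIm (cokernel.π ((EtCoh.push f).map S.g))).1 inferInstance V s v
    exact ⟨V', k, v', t, hv', ht⟩
  · intro V x hx
    obtain ⟨y, rfl⟩ := exists_map_eq hS (pr f V) 0 _ hx
    obtain ⟨t, rfl⟩ := (secP_bijective f S.X₂ V).2 y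
    rw [map_secP, hE]
    exact congrArg (fun k : (EtCoh.push f).obj S.X₂ ⟶ cokernel ((EtCoh.push f).map S.g) =>
      k.hom.app (op V) t) (cokernel.condition ((EtCoh.push f).map S.g))
  · intro V x hx v
    obtain ⟨s, rfl⟩ := (secP_bijective f S.X₃ V).2 x
    rw [hE] at hx
    obtain ⟨V', k, v', hv', t, ht⟩ := locIm_of_cokernel ((EtCoh.push f).map S.g) s v hx
    refine ⟨V', k, v', hv', ?_⟩
    rw [res_secP]
    have e : secP f S.X₃ V' (S.X₃.obj.map ((EtCoh.bc f).map k).op s) =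
        map S.g (pr f V') 0 (secP f S.X₂ V' t) := by
      rw [map_secP]
      exact congrArg (secP f S.X₃ V') ht.symm
    rw [e, δ_map]

theorem nonempty_edge_succ {S : ShortComplex (EtCoh.Ab X)} (hS : S.ShortExact) (n : ℕ)
    (h1 : ∀ (V : Y.Etale) (x : HQ S.X₂ (pr f V) n), x = 0)
    (h2 : ∀ (V : Y.Etale) (x : HQ S.X₂ (pr f V) (n + 1)), x = 0) {G : EtCoh.Ab Y}
    (E : Edge f S.X₃ n G) : Nonempty (Edge f S.X₁ (n + 1) G) := by
  have hδ : ∀ (V : Y.Etale) (x : HQ S.X₃ (pr f V) n), δ hS (pr f V) n x = 0 → x = 0 := by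
    intro V x hx
    obtain ⟨y, rfl⟩ := exists_map_eq hS (pr f V) n _ hx
    rw [h1 V y, map_zero]
  refine nonempty_step hS n h2 E (𝟙 G) ?_ ?_ ?_
  · intro V s v
    exact ⟨V, 𝟙 V, v, s, rfl, (map_id_apply G V s).symm⟩
  · intro V x hx
    rw [hδ V x hx, map_zero]
    exact map_zero _
  · intro V x hx v
    obtain ⟨V', k, v', hv', h⟩ := E.inj V x hx v
    exact ⟨V', k, v', hv', by rw [h, map_zero]⟩

/-- **Edge maps exist for the higher direct images.** -/
theorem nonempty_edge (f : X ⟶ Y) (F : EtCoh.Ab X) (n : ℕ) :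
    Nonempty (Edge f F n ((EtCoh.Rpush f n).obj F)) := by
  cases n with
  | zero =>
    obtain ⟨E, -⟩ := exists_edgeZero f F
    exact nonempty_ofIso E ((EtCoh.push f).rightDerivedZeroIsoSelf.app F).symm
  | succ n =>
    induction n generalizing F with
    | zero =>
      obtain ⟨e⟩ := DerLES.nonempty_iso_one_of_injective (EtCoh.push f) (injSeq_shortExact F)
      obtain ⟨E⟩ := nonempty_edge_one (f := f) (injSeq_shortExact F)
        (fun V x => eq_zero_of_injective _ _ 0 x)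
      exact nonempty_ofIso E e.symm
    | succ n ih =>
      obtain ⟨e⟩ := DerLES.nonempty_iso_succ (EtCoh.push f) (injSeq_shortExact F)
        (DerLES.acyc_of_injective _ _) n
      obtain ⟨E⟩ := ih (injSeq F).X₃
      obtain ⟨E'⟩ := nonempty_edge_succ (injSeq_shortExact F) (n + 1)
        (fun V x => eq_zero_of_injective _ _ _ x) (fun V x => eq_zero_of_injective _ _ _ x) E
      exact nonempty_ofIso E' e.symm

end Groth.Agent.Lefpen.H365.Edge
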