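import Groth.Agent.CurvesA.EtFieldObj
import Groth.Agent.Etcore.PullbackLim
import Groth.Agent.Etcore.FGLim
import Mathlib.AlgebraicGeometry.AffineTransitionLimit
import Mathlib.FieldTheory.IsSepClosed

/-!
# The geometric point of `Spec K` given by a separable closure

`K ⊆ Ω` separable closure: `Spec Ω = lim Spec L` over the finite subextensions, every morphism from `Spec Ω` to
an étale `K`-scheme factors through some `Spec L`, and any two `K`-morphisms `Spec Ω ⟶ Spec L` differ by an
element of `Gal(Ω/K)`.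
-/

set_option autoImplicit false
universe u
open CategoryTheory CategoryTheory.Limits AlgebraicGeometry Opposite

namespace Groth.Agent.Lefpen.H365.FieldPts

open Groth.Agent.Etcore.FGLim Groth.Agent.Etcore.PullbackLim Groth.Agent.CurvesA.EtFieldObj

variable (K Ω : Type u) [Field K] [Field Ω] [Algebra K Ω]

/-- The finite subextensions. -/
abbrev FinSub : Type u := {L : IntermediateField K Ω // FiniteDimensional K L}

instance (L : FinSub K Ω) : FiniteDimensional K L.1 := L.2

instance : IsDirected (FinSub K Ω) (· ≤ ·) where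
  directed A B := ⟨⟨A.1 ⊔ B.1, IntermediateField.finiteDimensional_sup A.1 B.1⟩,
    show A.1 ≤ A.1 ⊔ B.1 from le_sup_left, show B.1 ≤ A.1 ⊔ B.1 from le_sup_right⟩

instance : Nonempty (FinSub K Ω) :=
  ⟨⟨⊥, show FiniteDimensional K (⊥ : IntermediateField K Ω) from inferInstance⟩⟩

/-- The directed system of finite subextensions. -/
def sysF : FinSub K Ω ⥤ CommRingCat.{u} where
  obj L := CommRingCat.of L.1
  map h := CommRingCat.ofHom (IntermediateField.inclusion h.le).toRingHom
  map_id _ := rfl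
  map_comp _ _ := rfl

/-- The cocone with point `Ω`. -/
def coconeF : Cocone (sysF K Ω) where
  pt := CommRingCat.of Ω
  ι :=
    { app := fun L => CommRingCat.ofHom (algebraMap L.1 Ω)
      naturality := fun _ _ _ => rfl }

theorem nonempty_isColimit_coconeF [Algebra.IsAlgebraic K Ω] : Nonempty (IsColimit (coconeF K Ω)) := by
  apply nonempty_isColimit
  · intro (x : Ω)
    have hx : IsIntegral K x := Algebra.IsIntegral.isIntegral x
    have h1 : FiniteDimensional K (IntermediateField.adjoin K {x}) :=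
      IntermediateField.adjoin.finiteDimensional hx
    exact ⟨⟨IntermediateField.adjoin K {x}, h1⟩,
      ⟨x, IntermediateField.mem_adjoin_simple_self K x⟩, rfl⟩
  · intro B y z h
    exact ⟨B, 𝟙 B, congrArg _ (Subtype.ext h)⟩

/-- `Spec Ω = lim Spec L`. -/
noncomputable def limF [Algebra.IsAlgebraic K Ω] :
    IsLimit (specCone (sysF K Ω) (coconeF K Ω)) :=
  isLimitSpecCone _ _ (nonempty_isColimit_coconeF K Ω).some

/-- The geometric point. -/
noncomputable abbrev xi : Spec (CommRingCat.of Ω) ⟶ Spec (CommRingCat.of K) :=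
  Spec.map (CommRingCat.ofHom (algebraMap K Ω))

/-- The structure maps `Spec L ⟶ Spec K`. -/
noncomputable def str (L : (FinSub K Ω)ᵒᵖ) :
    (specSys (sysF K Ω)).obj L ⟶ Spec (CommRingCat.of K) :=
  Spec.map (CommRingCat.ofHom (algebraMap K L.unop.1))

theorem str_map ⦃a b : (FinSub K Ω)ᵒᵖ⦄ (h : a ⟶ b) :
    (specSys (sysF K Ω)).map h ≫ str K Ω b = str K Ω a := by
  change Spec.map ((sysF K Ω).map h.unop) ≫ Spec.map _ = Spec.map _
  rw [← Spec.map_comp]
  rfl

theorem str_cone (a : (FinSub K Ω)ᵒᵖ) :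
    (specCone (sysF K Ω) (coconeF K Ω)).π.app a ≫ str K Ω a = xi K Ω := by
  change Spec.map _ ≫ Spec.map _ = Spec.map _
  rw [← Spec.map_comp]
  rfl

variable [Algebra.IsSeparable K Ω]

/-- The object `Spec L` of the small étale site of `Spec K`. -/
noncomputable def VL (L : FinSub K Ω) : (Spec (CommRingCat.of K)).Etale :=
  haveI : Algebra.IsSeparable K L.1 := inferInstance
  etObj K L.1

variable {K Ω}

theorem VL_hom (L : FinSub K Ω) : (VL K Ω L).hom = str K Ω (op L) := rfl

/-- The projection `Spec Ω ⟶ Spec L`. -/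
noncomputable def rL (L : FinSub K Ω) : Spec (CommRingCat.of Ω) ⟶ (VL K Ω L).left :=
  Spec.map (CommRingCat.ofHom (algebraMap L.1 Ω))

theorem rL_hom (L : FinSub K Ω) : rL L ≫ (VL K Ω L).hom = xi K Ω := str_cone K Ω (op L)

/-- The transition maps. -/
noncomputable def tr {L M : FinSub K Ω} (h : L ≤ M) : VL K Ω M ⟶ VL K Ω L :=
  haveI : Algebra.IsSeparable K L.1 := inferInstance
  haveI : Algebra.IsSeparable K M.1 := inferInstance
  etMap (IntermediateField.inclusion h)

theorem tr_left {L M : FinSub K Ω} (h : L ≤ M) :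
    (tr h).left = (specSys (sysF K Ω)).map (homOfLE h).op := rfl

theorem rL_tr {L M : FinSub K Ω} (h : L ≤ M) : rL M ≫ (tr h).left = rL L := by
  change Spec.map _ ≫ Spec.map _ = Spec.map _
  rw [← Spec.map_comp]
  rfl

/-- Every morphism from `Spec Ω` to an étale `K`-scheme factors through some `Spec L`. -/
theorem exists_fac (W : (Spec (CommRingCat.of K)).Etale) (r : Spec (CommRingCat.of Ω) ⟶ W.left)
    (hr : r ≫ W.hom = xi K Ω) : ∃ (L : FinSub K Ω) (a : VL K Ω L ⟶ W), rL L ≫ a.left = r := by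
  have hW : Etale W.hom := W.prop
  let t : specSys (sysF K Ω) ⟶ (Functor.const _).obj (Spec (CommRingCat.of K)) :=
    { app := str K Ω
      naturality := fun a b h => (str_map K Ω h).trans (Category.comp_id _).symm }
  have ha : (specCone (sysF K Ω) (coconeF K Ω)).π ≫ t = (Functor.const _).map (r ≫ W.hom) := by
    ext a
    change (specCone (sysF K Ω) (coconeF K Ω)).π.app a ≫ str K Ω a = r ≫ W.hom
    rw [str_cone, hr]
  have i1 : ∀ {i j : (FinSub K Ω)ᵒᵖ} (f : i ⟶ j), IsAffineHom ((specSys (sysF K Ω)).map f) :=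
    fun f => isAffineHom_specSys _ f
  obtain ⟨i, g, h1, h2⟩ := Scheme.exists_π_app_comp_eq_of_locallyOfFinitePresentation
    (specSys (sysF K Ω)) t W.hom (specCone (sysF K Ω) (coconeF K Ω)) (limF K Ω) r ha
  refine ⟨i.unop, ?_, ?_⟩
  · exact MorphismProperty.Over.homMk g h2 trivial
  · exact h1

/-- `K`-morphisms `Spec Ω ⟶ Spec L` are conjugate under `Gal(Ω/K)`. -/
theorem exists_aut [IsSepClosed Ω] (L : FinSub K Ω) (ρ : Spec (CommRingCat.of Ω) ⟶ (VL K Ω L).left)
    (h : ρ ≫ (VL K Ω L).hom = xi K Ω) :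
    ∃ σ : Ω ≃ₐ[K] Ω, Spec.map (CommRingCat.ofHom (σ : Ω →+* Ω)) ≫ rL L = ρ := by
  have hsc : IsSepClosure K Ω := ⟨inferInstance, inferInstance⟩
  have hgal : IsGalois K Ω := inferInstance
  let ρ' : Spec (CommRingCat.of Ω) ⟶ Spec (CommRingCat.of L.1) := ρ
  obtain ⟨φ, hφ⟩ : ∃ φ : CommRingCat.of L.1 ⟶ CommRingCat.of Ω, Spec.map φ = ρ' :=
    ⟨Spec.preimage ρ', Spec.map_preimage ρ'⟩
  have h1 : CommRingCat.ofHom (algebraMap K L.1) ≫ φ = CommRingCat.ofHom (algebraMap K Ω) := by
    apply Spec.map_injective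
    rw [Spec.map_comp, hφ]
    exact h
  let φ' : L.1 →ₐ[K] Ω := { φ.hom with
    commutes' := fun x => congrArg (fun k : CommRingCat.of K ⟶ CommRingCat.of Ω => k.hom x) h1 }
  let τ : Ω →ₐ[K] Ω := φ'.liftNormal Ω
  have hτ : ∀ x : L.1, τ (algebraMap L.1 Ω x) = φ' x := fun x => φ'.liftNormal_commutes Ω x
  refine ⟨AlgEquiv.ofBijective τ (Algebra.IsAlgebraic.algHom_bijective τ), ?_⟩
  change Spec.map _ ≫ Spec.map _ = ρ'
  rw [← Spec.map_comp, ← hφ]
  congr 1
  ext x
  exact hτ x

end Groth.Agent.Lefpen.H365.FieldPts
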