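import Groth.Agent.Lefpen.H365.Edge
import Groth.Agent.Lefpen.H365.FieldPts
import Groth.Agent.Lefpen.H712.HT
import Groth.Agent.Etcore.LimH
import Groth.Agent.Etcore.LimBC1
import Groth.Agent.EtpbcA.EqLocus

/-!
# Sections of `R^n f_* F` over `Spec K` and invariant classes (evaluation at geometric points)

`f : X ⟶ Spec K` quasi-compact quasi-separated, `Ω` a separable closure of `K`, `V` étale over `K`, `r : Spec Ω ⟶ V`
over `K`: `ev f F r hr n : H^n(X ×_K V, F) →+ H^n(X_Ω, F)`.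

* `ev_mm`: compatibility with restriction in `V`.
* `rs_ev`: compatibility with `Gal(Ω/K)`.
-/

set_option autoImplicit false
universe u
open CategoryTheory CategoryTheory.Limits AlgebraicGeometry Opposite Abelian
open scoped Groth.Agent.Etcore.EtInst
open Groth.Agent.Etcore.EtInst

namespace Groth.Agent.Lefpen.H365.Ev

open Groth.Agent.Etcore Groth.Agent.Etcore.HQ Groth.Agent.Etcore.RpushLoc
open Groth.Agent.Etcore.PullbackLim Groth.Agent.Etcore.HpullCalc
open Groth.Agent.Etcore.LimBC0 (mB mB_fst mB_hom mZ mZ_fst mZ_snd mZ_mB mB_map)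
open Groth.Agent.EtpbcB.Big
open Groth.Agent.Lefpen.H365.FieldPts Groth.Agent.Lefpen.H365.Edge
open Groth.Agent.Lefpen.H712.HT

section Mb

variable {X Y : Scheme.{u}} (f : X ⟶ Y)

attribute [local instance] pfl

theorem mB_id_fst (V : Y.Etale) :
    mB f (𝟙 V.left) (Category.id_comp V.hom) ≫ bcFst f V = pullback.snd f V.hom :=
  (mB_fst f (𝟙 V.left) (Category.id_comp V.hom)).trans (Category.comp_id _)

theorem mB_id_hom (V : Y.Etale) :
    mB f (𝟙 V.left) (Category.id_comp V.hom) ≫ ((EtCoh.bc f).obj V).hom = pullback.fst f V.hom :=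
  mB_hom f (𝟙 V.left) (Category.id_comp V.hom)

theorem comp_mB_id (V : Y.Etale) {T : Scheme.{u}} (p : T ⟶ pullback f V.hom)
    (m : T ⟶ ((EtCoh.bc f).obj V).left)
    (h1 : p ≫ pullback.fst f V.hom = m ≫ ((EtCoh.bc f).obj V).hom)
    (h2 : p ≫ pullback.snd f V.hom = m ≫ bcFst f V) :
    p ≫ mB f (𝟙 V.left) (Category.id_comp V.hom) = m := by
  apply hom_ext_bc
  · exact (Category.assoc _ _ _).trans ((congrArg (fun t => p ≫ t) (mB_id_fst f V)).trans h2)
  · exact (Category.assoc _ _ _).trans ((congrArg (fun t => p ≫ t) (mB_id_hom f V)).trans h1)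

/-- `X ×_Y V` computed in two ways. -/
instance isIso_mB_id (V : Y.Etale) : IsIso (mB f (𝟙 V.left) (Category.id_comp V.hom)) := by
  refine ⟨⟨pullback.lift ((EtCoh.bc f).obj V).hom (bcFst f V) (bc_condition f V).symm, ?_, ?_⟩⟩
  · apply pullback.hom_ext
    · exact (Category.assoc _ _ _).trans ((congrArg
        (fun t => mB f (𝟙 V.left) (Category.id_comp V.hom) ≫ t) (pullback.lift_fst _ _ _)).trans
          ((mB_id_hom f V).trans (Category.id_comp _).symm))
    · exact (Category.assoc _ _ _).trans ((congrArg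
        (fun t => mB f (𝟙 V.left) (Category.id_comp V.hom) ≫ t) (pullback.lift_snd _ _ _)).trans
          ((mB_id_fst f V).trans (Category.id_comp _).symm))
  · apply comp_mB_id
    · exact (pullback.lift_fst _ _ _).trans (Category.id_comp _).symm
    · exact (pullback.lift_snd _ _ _).trans (Category.id_comp _).symm

theorem comp_mB_id' {V V' : Y.Etale} (k : V' ⟶ V) (p : pullback f V'.hom ⟶ pullback f V.hom)
    (h1 : p ≫ pullback.fst f V.hom = pullback.fst f V'.hom)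
    (h2 : p ≫ pullback.snd f V.hom = pullback.snd f V'.hom ≫ k.left) :
    p ≫ mB f (𝟙 V.left) (Category.id_comp V.hom) =
      mB f (𝟙 V'.left) (Category.id_comp V'.hom) ≫ mm f k := by
  apply comp_mB_id
  · refine h1.trans ((Category.assoc _ _ _).trans ?_).symm
    exact (congrArg (fun t => mB f (𝟙 V'.left) (Category.id_comp V'.hom) ≫ t) (mm_pr f k)).trans
      (mB_id_hom f V')
  · refine h2.trans ((Category.assoc _ _ _).trans ?_).symm
    have e1 : mm f k ≫ bcFst f V = bcFst f V' ≫ k.left := bc_map_fst f k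
    refine (congrArg (fun t => mB f (𝟙 V'.left) (Category.id_comp V'.hom) ≫ t) e1).trans ?_
    exact (Category.assoc _ _ _).symm.trans (congrArg (fun t => t ≫ k.left) (mB_id_fst f V'))

section Gen

variable (F : EtCoh.Ab X) {Z Z₁ Z₂ T : Scheme.{u}} {q : Z ⟶ X} {q₁ : Z₁ ⟶ X} {q₂ : Z₂ ⟶ X} {t : T ⟶ X}

theorem exists_of_bijective (d : Z₂ ⟶ Z) (hd : d ≫ q = q₂) (p : T ⟶ Z₂) (hp : p ≫ q₂ = t)
    (g : T ⟶ Z) (hg : g ≫ q = t) (e : p ≫ d = g) (n : ℕ)
    (hb : Function.Surjective (res F d hd n)) (x : HQ F q₂ n) :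
    ∃ y : HQ F q n, res F g hg n y = hpVia p q₂ t hp F n x := by
  obtain ⟨y, rfl⟩ := hb x
  refine ⟨y, ?_⟩
  rw [← LimBC1.res_eq_hpVia, res_res F d hd p hp g e hg]

theorem hpVia_res (d : Z₂ ⟶ Z) (hd : d ≫ q = q₂) (p : T ⟶ Z₂) (hp : p ≫ q₂ = t)
    (g : T ⟶ Z) (hg : g ≫ q = t) (e : p ≫ d = g) (n : ℕ) (y : HQ F q n)
    (h : res F g hg n y = 0) : hpVia p q₂ t hp F n (res F d hd n y) = 0 := by
  rw [← LimBC1.res_eq_hpVia, res_res F d hd p hp g e hg, h]

theorem res_eq_zero_of_comm (b : Z₁ ⟶ Z) (hb : b ≫ q = q₁) (a : T ⟶ Z₁) (ha : a ≫ q₁ = t)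
    (d : Z₂ ⟶ Z) (hd : d ≫ q = q₂) (c : T ⟶ Z₂) (hc : c ≫ q₂ = t) (e : a ≫ b = c ≫ d) (n : ℕ)
    (hinj : Function.Injective (res F a ha n)) (y : HQ F q n) (z : HQ F q₂ n)
    (hz : res F d hd n y = z) (h : hpVia c q₂ t hc F n z = 0) : res F b hb n y = 0 := by
  subst hz
  apply hinj
  have hab : (a ≫ b) ≫ q = t := by rw [Category.assoc, hb, ha]
  rw [map_zero, res_res F b hb a ha (a ≫ b) rfl hab, ← h, ← LimBC1.res_eq_hpVia,
    res_res F d hd c hc (a ≫ b) e.symm hab]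

end Gen

end Mb

variable {K Ω : Type u} [Field K] [Field Ω] [Algebra K Ω]
  {X : Scheme.{u}} (f : X ⟶ Spec (CommRingCat.of K)) (F : EtCoh.Ab X)

/-- Evaluation at a geometric point `r` of `V`. -/
noncomputable def ev {V : (Spec (CommRingCat.of K)).Etale} (r : Spec (CommRingCat.of Ω) ⟶ V.left)
    (hr : r ≫ V.hom = xi K Ω) (n : ℕ) : HQ F (pr f V) n →+ HT f F (xi K Ω) n :=
  res F (mB f r hr) (mB_hom f r hr) n

theorem ev_mm {V V' : (Spec (CommRingCat.of K)).Etale} (k : V' ⟶ V)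
    (r' : Spec (CommRingCat.of Ω) ⟶ V'.left) (hr' : r' ≫ V'.hom = xi K Ω)
    (r : Spec (CommRingCat.of Ω) ⟶ V.left) (hr : r ≫ V.hom = xi K Ω) (e : r' ≫ k.left = r) (n : ℕ)
    (y : HQ F (pr f V) n) :
    ev f F r' hr' n (res F (mm f k) (mm_pr f k) n y) = ev f F r hr n y :=
  res_res F (mm f k) (mm_pr f k) (mB f r' hr') (mB_hom f r' hr') (mB f r hr)
    (mB_map f k r' hr' r hr e) (mB_hom f r hr) n y

theorem ev_congr {V : (Spec (CommRingCat.of K)).Etale} {r r' : Spec (CommRingCat.of Ω) ⟶ V.left}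
    (e : r = r') (hr : r ≫ V.hom = xi K Ω) (hr' : r' ≫ V.hom = xi K Ω) (n : ℕ)
    (y : HQ F (pr f V) n) : ev f F r hr n y = ev f F r' hr' n y := by
  subst e; rfl

theorem rs_ev (φ : Spec (CommRingCat.of Ω) ⟶ Spec (CommRingCat.of Ω)) (hφ : φ ≫ xi K Ω = xi K Ω)
    {V : (Spec (CommRingCat.of K)).Etale} (r : Spec (CommRingCat.of Ω) ⟶ V.left)
    (hr : r ≫ V.hom = xi K Ω) (n : ℕ) (y : HQ F (pr f V) n) :
    rs f F φ hφ n (ev f F r hr n y) =
      ev f F (φ ≫ r) (by rw [Category.assoc, hr, hφ]) n y :=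
  res_res F (mB f r hr) (mB_hom f r hr) (bm f φ hφ) (bm_fst f φ hφ) (mB f (φ ≫ r) _)
    (mZ_mB f φ hφ r hr (φ ≫ r) _ rfl) (mB_hom f (φ ≫ r) _) n y

variable [Algebra.IsSeparable K Ω]

/-- The comparison `X ×_K Spec L ⟶ X ×_K V_L`. -/
noncomputable def mBL (L : FinSub K Ω) :
    pullback f (str K Ω (op L)) ⟶ ((EtCoh.bc f).obj (VL K Ω L)).left :=
  mB f (𝟙 (VL K Ω L).left) (Category.id_comp (VL K Ω L).hom)

theorem mBL_hom (L : FinSub K Ω) : mBL f L ≫ pr f (VL K Ω L) = pullback.fst f (str K Ω (op L)) :=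
  mB_id_hom f (VL K Ω L)

instance isIso_mBL (L : FinSub K Ω) : IsIso (mBL f L) := isIso_mB_id f (VL K Ω L)

/-- `mB` at level `L` factors through the fibre product `X ×_K L`. -/
theorem proj_mBL (L : FinSub K Ω) :
    proj (specSys (sysF K Ω)) (str K Ω) f (specCone (sysF K Ω) (coconeF K Ω)) (xi K Ω)
      (str_cone K Ω) (op L) ≫ mBL f L = mB f (rL L) (rL_hom L) :=
  comp_mB_id f (VL K Ω L) _ _
    ((proj_fst (specSys (sysF K Ω)) (str K Ω) f (specCone (sysF K Ω) (coconeF K Ω)) (xi K Ω)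
      (str_cone K Ω) (op L)).trans (mB_hom f (rL L) (rL_hom L)).symm)
    ((proj_snd (specSys (sysF K Ω)) (str K Ω) f (specCone (sysF K Ω) (coconeF K Ω)) (xi K Ω)
      (str_cone K Ω) (op L)).trans (mB_fst f (rL L) (rL_hom L)).symm)

theorem mapp_mBL {L M : FinSub K Ω} (h : L ≤ M) :
    mapp (specSys (sysF K Ω)) (str K Ω) (str_map K Ω) f (homOfLE h).op ≫ mBL f L =
      mBL f M ≫ mm f (tr h) :=
  comp_mB_id' f (tr h) _ (mapp_fst (specSys (sysF K Ω)) (str K Ω) (str_map K Ω) f (homOfLE h).op)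
    (mapp_snd (specSys (sysF K Ω)) (str K Ω) (str_map K Ω) f (homOfLE h).op)

attribute [local instance] pfl

theorem res_mBL_bijective (L : FinSub K Ω) (n : ℕ) :
    Function.Bijective (res F (mBL f L) (mBL_hom f L) n) :=
  LimBC1.res_bijective F (mBL f L) (mBL_hom f L) n

end Groth.Agent.Lefpen.H365.Ev
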