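import Groth.Agent.Lefpen.H365.Ev

/-!
# Classes on `X_Ω` and finite levels

* `exists_ev`: every class on `X_Ω` comes from a finite level.
* `exists_res_eq_zero`: a class which dies on `X_Ω` dies on an étale neighbourhood.
-/

set_option autoImplicit false
universe u
open CategoryTheory CategoryTheory.Limits AlgebraicGeometry Opposite Abelian
open scoped Groth.Agent.Etcore.EtInst
open Groth.Agent.Etcore.EtInst

namespace Groth.Agent.Lefpen.H365.Ev2

open Groth.Agent.Etcore Groth.Agent.Etcore.HQ Groth.Agent.Etcore.RpushLoc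
open Groth.Agent.Etcore.PullbackLim Groth.Agent.Etcore.HpullCalc
open Groth.Agent.Etcore.LimBC0 (mB mB_fst mB_hom mZ mZ_fst mZ_snd mZ_mB mB_map)
open Groth.Agent.EtpbcB.Big
open Groth.Agent.Lefpen.H365.FieldPts Groth.Agent.Lefpen.H365.Edge Groth.Agent.Lefpen.H365.Ev
open Groth.Agent.Lefpen.H712.HT

variable {K Ω : Type u} [Field K] [Field Ω] [Algebra K Ω]
  {X : Scheme.{u}} (f : X ⟶ Spec (CommRingCat.of K)) (F : EtCoh.Ab X)
variable [Algebra.IsSeparable K Ω]
attribute [local instance] pfl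

variable [QuasiCompact f] [QuasiSeparated f]

/-- Every class on `X_Ω` comes from a finite level. -/
theorem exists_ev (n : ℕ) (x : HT f F (xi K Ω) n) :
    ∃ (L : FinSub K Ω) (y : HQ F (pr f (VL K Ω L)) n), ev f F (rL L) (rL_hom L) n y = x := by
  obtain ⟨L, -, ξL, hξ⟩ := LimH.exists_of_pullbackLim (specSys (sysF K Ω)) (str K Ω) (str_map K Ω) f
    (specCone (sysF K Ω) (coconeF K Ω)) (limF K Ω) (xi K Ω) (str_cone K Ω)
    (fun _ _ h => isAffineHom_specSys _ h) (fun a => inferInstance) (fun a => inferInstance) F n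
    (Classical.arbitrary (FinSub K Ω)) x
  obtain ⟨y, hy⟩ := exists_of_bijective F (mBL f L) (mBL_hom f L)
    (proj (specSys (sysF K Ω)) (str K Ω) f (specCone (sysF K Ω) (coconeF K Ω)) (xi K Ω)
      (str_cone K Ω) (op L))
    (proj_fst (specSys (sysF K Ω)) (str K Ω) f (specCone (sysF K Ω) (coconeF K Ω)) (xi K Ω)
      (str_cone K Ω) (op L))
    (mB f (rL L) (rL_hom L)) (mB_hom f (rL L) (rL_hom L)) (proj_mBL f L) n
    (res_mBL_bijective f F L n).2 ξL
  exact ⟨L, y, hy.trans hξ⟩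

theorem exists_res_eq_zero_aux (n : ℕ) (L : FinSub K Ω) (y : HQ F (pr f (VL K Ω L)) n)
    (h : ev f F (rL L) (rL_hom L) n y = 0) :
    ∃ (M : FinSub K Ω) (hLM : L ≤ M), res F (mm f (tr hLM)) (mm_pr f (tr hLM)) n y = 0 := by
  obtain ⟨M, hLM, h2⟩ := LimH.exists_zero_of_pullbackLim (specSys (sysF K Ω)) (str K Ω) (str_map K Ω) f
    (specCone (sysF K Ω) (coconeF K Ω)) (limF K Ω) (xi K Ω) (str_cone K Ω)
    (fun _ _ h => isAffineHom_specSys _ h) (fun a => inferInstance) (fun a => inferInstance) F n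
    L (res F (mBL f L) (mBL_hom f L) n y)
    (hpVia_res F (mBL f L) (mBL_hom f L)
      (proj (specSys (sysF K Ω)) (str K Ω) f (specCone (sysF K Ω) (coconeF K Ω)) (xi K Ω)
        (str_cone K Ω) (op L))
      (proj_fst (specSys (sysF K Ω)) (str K Ω) f (specCone (sysF K Ω) (coconeF K Ω)) (xi K Ω)
        (str_cone K Ω) (op L))
      (mB f (rL L) (rL_hom L)) (mB_hom f (rL L) (rL_hom L)) (proj_mBL f L) n y h)
  exact ⟨M, hLM, res_eq_zero_of_comm F (mm f (tr hLM)) (mm_pr f (tr hLM))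
    (mBL f M) (mBL_hom f M) (mBL f L) (mBL_hom f L)
    (mapp (specSys (sysF K Ω)) (str K Ω) (str_map K Ω) f (homOfLE hLM).op)
    (mapp_fst (specSys (sysF K Ω)) (str K Ω) (str_map K Ω) f (homOfLE hLM).op)
    (mapp_mBL f hLM).symm n (res_mBL_bijective f F M n).1 y _ rfl h2⟩

/-- A class which dies on `X_Ω` dies on an étale neighbourhood. -/
theorem exists_res_eq_zero (n : ℕ) {V : (Spec (CommRingCat.of K)).Etale}
    (r : Spec (CommRingCat.of Ω) ⟶ V.left) (hr : r ≫ V.hom = xi K Ω) (y : HQ F (pr f V) n)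
    (h : ev f F r hr n y = 0) :
    ∃ (M : FinSub K Ω) (k : VL K Ω M ⟶ V), rL M ≫ k.left = r ∧
      res F (mm f k) (mm_pr f k) n y = 0 := by
  obtain ⟨L, a, ha⟩ := exists_fac V r hr
  obtain ⟨M, hLM, h1⟩ := exists_res_eq_zero_aux f F n L (res F (mm f a) (mm_pr f a) n y)
    ((ev_mm f F a (rL L) (rL_hom L) r hr ha n y).trans h)
  refine ⟨M, tr hLM ≫ a, ?_, ?_⟩
  · change rL M ≫ (tr hLM).left ≫ a.left = r
    rw [← Category.assoc, rL_tr, ha]
  · refine (res_res F (mm f a) (mm_pr f a) (mm f (tr hLM)) (mm_pr f (tr hLM)) (mm f (tr hLM ≫ a))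
      ?_ (mm_pr f (tr hLM ≫ a)) n y).symm.trans h1
    change ((EtCoh.bc f).map (tr hLM)).left ≫ ((EtCoh.bc f).map a).left =
      ((EtCoh.bc f).map (tr hLM ≫ a)).left
    rw [CategoryTheory.Functor.map_comp]
    rfl

end Groth.Agent.Lefpen.H365.Ev2
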