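import Groth.Agent.S3099
import Groth.Agent.S0672
import Groth.Agent.Etcore.PullbackSys
import Groth.Agent.EtpbcA.LAUnit
import Groth.Agent.Etbc.H228.CompLow
import Groth.Agent.Etrest.ConstBasic
import Groth.Agent.EtpbcB.TorsionBasic
import Groth.Agent.Sga4B.HTools
import Mathlib.AlgebraicGeometry.AlgClosed.Basic
import Mathlib.AlgebraicGeometry.Noetherian

/-!
# Purity at a closed point, after a base change which is a limit of smooth morphisms

* `bijective_Hpull_of_bc` : `X₁`, an open immersion `j : U₁ ⟶ X₁` with `F = j_* j^* F` and `R^q j_* j^* F = 0` for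
  `1 ≤ q ≤ m`, and `g : P ⟶ X₁` such that base change along `g` holds for `j`: then `H^q(P, g^* F) = H^q(V, ·)`,
  `V = P ×_{X₁} U₁`, for `q ≤ m`.
* `purity_point` : S3099 at a closed point of a smooth scheme over an algebraically closed field.
* `bijective_Hpull` : the restriction `H^q(P, ℤ/N) ⟶ H^q(V, ℤ/N)` (in the form `Hpull v (g^* ℤ/N)`) is bijective for
  `q + 1 < 2 n`, `P = X₁ ×_C T`, `T ⟶ C` a limit of étale `C`-schemes, `V` the complement of the preimage of a closed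
  point of `X₁`.
* `purity_card` : the statement used for S4031.
-/

set_option autoImplicit false
universe u
open CategoryTheory CategoryTheory.Limits AlgebraicGeometry Opposite

namespace Groth.Agent.Lefpen.H365.Pur

open Groth.Agent.EtpbcA.LA

/-- Truncated comparison after base change. -/
theorem bijective_Hpull_of_bc {X₁ U₁ P V : Scheme.{u}} (j : U₁ ⟶ X₁) (g : P ⟶ X₁) (v : V ⟶ P) (gV : V ⟶ U₁)
    [PreservesFiniteLimits (EtCoh.pull v)] (hsq : IsPullback gV v j g) (F : EtCoh.Ab X₁) (m : ℕ)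
    (hbc : ∀ q : ℕ, Nonempty ((EtCoh.pull g).obj ((EtCoh.Rpush j q).obj ((EtCoh.pull j).obj F)) ≅
        (EtCoh.Rpush v q).obj ((EtCoh.pull gV).obj ((EtCoh.pull j).obj F))) ∧
      IsIso (EtCoh.baseChange0 j g v gV hsq.w ((EtCoh.pull j).obj F)))
    (hu : IsIso ((EtCoh.pullPushAdj j).unit.app F))
    (hR : ∀ q : ℕ, 1 ≤ q → q ≤ m → IsZero ((EtCoh.Rpush j q).obj ((EtCoh.pull j).obj F))) :
    (∀ q : ℕ, q ≤ m → Function.Bijective (EtCore.Hpull v ((EtCoh.pull g).obj F) q)) ∧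
      Function.Injective (EtCore.Hpull v ((EtCoh.pull g).obj F) (m + 1)) := by
  have h4 := pull_unit_baseChange0 (f := j) (g := g) (f' := v) (g' := gV) hsq.w F
  have h0 : IsIso (EtCoh.baseChange0 j g v gV hsq.w ((EtCoh.pull j).obj F)) := (hbc 0).2
  have h7 : IsIso ((EtCoh.pullPushAdj v).unit.app ((EtCoh.pull g).obj F) ≫
      (EtCoh.push v).map ((kap hsq.w).hom.app F)) := by
    rw [← h4]
    infer_instance
  have hunit : IsIso ((EtCoh.pullPushAdj v).unit.app ((EtCoh.pull g).obj F)) :=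
    IsIso.of_isIso_comp_right _ ((EtCoh.push v).map ((kap hsq.w).hom.app F))
  refine Groth.Agent.Etbc.H228.CompLow.Hpull_low v ((EtCoh.pull g).obj F) m (fun q h1 h2 => ?_)
  obtain ⟨e⟩ := (hbc q).1
  have h5 : IsZero ((EtCoh.Rpush v q).obj ((EtCoh.pull gV).obj ((EtCoh.pull j).obj F))) :=
    ((EtCoh.pull g).map_isZero (hR q h1 h2)).of_iso e.symm
  exact h5.of_iso ((EtCoh.Rpush v q).mapIso ((kap hsq.w).app F))

/-- Base change along the pullback of a limit of smooth schemes (S0672). -/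
theorem bc_of_limit {ι : Type u} [Preorder ι] [IsDirected ι (· ≤ ·)] [Nonempty ι] {X₁ C : Scheme.{u}}
    (ρ : X₁ ⟶ C) (D : ιᵒᵖ ⥤ Over C) (hsm : ∀ i, Smooth (D.obj i).hom)
    (haff : ∀ ⦃a b : ιᵒᵖ⦄ (h : a ⟶ b), IsAffineHom (D.map h).left)
    (c : Cone (D ⋙ Over.forget C)) (hc : IsLimit c) (t : c.pt ⟶ C)
    (ht : ∀ i, c.π.app i ≫ (D.obj i).hom = t)
    {U₁ V : Scheme.{u}} (j : U₁ ⟶ X₁) [QuasiCompact j] [QuasiSeparated j] (v : V ⟶ pullback ρ t) (gV : V ⟶ U₁)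
    (hsq : IsPullback gV v j (pullback.fst ρ t)) (F : EtCoh.Ab U₁) (hF : EtPBC.IsTorsionInvertibleOn X₁ F)
    (q : ℕ) :
    Nonempty ((EtCoh.pull (pullback.fst ρ t)).obj ((EtCoh.Rpush j q).obj F) ≅
        (EtCoh.Rpush v q).obj ((EtCoh.pull gV).obj F)) ∧
      IsIso (EtCoh.baseChange0 j (pullback.fst ρ t) v gV hsq.w F) := by
  let T : ιᵒᵖ ⥤ Scheme.{u} := D ⋙ Over.forget C
  let τ : ∀ a : ιᵒᵖ, T.obj a ⟶ C := fun a => (D.obj a).hom
  have hτ : ∀ ⦃a b : ιᵒᵖ⦄ (g : a ⟶ b), T.map g ≫ τ b = τ a := fun a b g => Over.w (D.map g)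
  let D' : ιᵒᵖ ⥤ Over X₁ :=
    { obj := fun i => Over.mk (pullback.fst ρ (τ i))
      map := fun g => Over.homMk (Etcore.PullbackSys.mapp T τ hτ ρ g)
        (Etcore.PullbackSys.mapp_fst T τ hτ ρ g)
      map_id := fun i => by
        apply Over.OverMorphism.ext
        exact (Etcore.PullbackSys.sys T τ hτ ρ).map_id i
      map_comp := fun a b => by
        apply Over.OverMorphism.ext
        exact (Etcore.PullbackSys.sys T τ hτ ρ).map_comp a b }
  let c' : Cone (D' ⋙ Over.forget X₁) :=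
    { pt := pullback ρ t
      π := { app := fun i => (Etcore.PullbackSys.cone T τ hτ ρ c t ht).π.app i
             naturality := fun a b g =>
              (Etcore.PullbackSys.cone T τ hτ ρ c t ht).π.naturality g } }
  have hc' : IsLimit c' := Etcore.PullbackSys.isLimitCone T τ hτ ρ c t ht hc
  refine Groth.Agent.S0672.result D' ?_ ?_ c' hc' (pullback.fst ρ t) ?_ j v gV hsq F hF q
  · intro i
    have h4 : Smooth (τ i) := hsm i
    change Smooth (pullback.fst ρ (τ i))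
    exact MorphismProperty.of_isPullback (P := @Smooth) (IsPullback.of_hasPullback ρ (τ i)).flip h4
  · intro a b u
    exact Etcore.PullbackSys.isAffineHom_mapp T τ hτ ρ haff u
  · intro i
    change Etcore.PullbackSys.proj T τ ρ c t ht i ≫ pullback.fst ρ (τ i) = pullback.fst ρ t
    rw [Etcore.PullbackSys.proj_fst]

theorem killedBy_const' (X : Scheme.{u}) (N : ℕ) : EtCoh.KilledBy N (EtCoh.const X (ZMod N)) :=
  Etrest.ConstBasic.killedBy_const X (ZMod N) N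
    (fun m => by rw [nsmul_eq_mul, ZMod.natCast_self, zero_mul])

/-- An integer invertible in `k` is invertible on a `k`-scheme. -/
theorem isUnit_natCast {k : Type u} [Field k] {X : Scheme.{u}} (f : X ⟶ Spec (CommRingCat.of k)) (N : ℕ)
    (hN : (N : k) ≠ 0) : IsUnit (N : Γ(X, ⊤)) := by
  have h := (IsUnit.mk0 _ hN).map ((Scheme.ΓSpecIso (CommRingCat.of k)).inv ≫ f.appTop).hom
  rwa [map_natCast] at h

/-- Purity at a closed point. -/
theorem purity_point {k : Type u} [Field k] [IsAlgClosed k] {X₁ U₁ : Scheme.{u}}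
    (a : X₁ ⟶ Spec (CommRingCat.of k)) (n : ℕ) (hn : 0 < n) [SmoothOfRelativeDimension n a] (x₁ : X₁)
    (hx₁ : IsClosed ({x₁} : Set X₁)) (j : U₁ ⟶ X₁) [IsOpenImmersion j] (hU : Set.range j = ({x₁} : Set X₁)ᶜ)
    (N : ℕ) (hN : (N : k) ≠ 0) :
    IsIso ((EtCoh.pullPushAdj j).unit.app (EtCoh.const X₁ (ZMod N))) ∧
      ∀ q : ℕ, q ≠ 0 → q ≠ 2 * n - 1 →
        IsZero ((EtCoh.Rpush j q).obj ((EtCoh.pull j).obj (EtCoh.const X₁ (ZMod N)))) := by
  have hN0 : NeZero N := ⟨by rintro rfl; simp at hN⟩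
  have hsm : Smooth a := SmoothOfRelativeDimension.smooth n a
  have hlf : LocallyOfFiniteType a := inferInstance
  have h0 : SmoothOfRelativeDimension (0 + n) a := by rwa [Nat.zero_add]
  let i := pointOfClosedPoint a x₁ hx₁
  have hi : i ≫ a = 𝟙 _ := pointOfClosedPoint_comp a x₁ hx₁
  have hcl : IsClosedImmersion i := isClosedImmersion_of_comp_eq_id _ _ hi
  have hr : Set.range i = {x₁} := by
    ext y
    constructor
    · rintro ⟨b, rfl⟩
      exact pointOfClosedPoint_apply a x₁ hx₁ b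
    · rintro rfl
      exact ⟨IsLocalRing.closedPoint k, pointOfClosedPoint_apply a y hx₁ _⟩
  have hid : SmoothOfRelativeDimension 0 (𝟙 (Spec (CommRingCat.of k))) := inferInstance
  exact Groth.Agent.S3099.result a (𝟙 _) i 0 n hn hi j (by rw [hU, hr]) N (isUnit_natCast a N hN) _
    (Etrest.ConstBasic.isFiniteLocallyConstant_const X₁ (ZMod N)) (killedBy_const' X₁ N)

/-- Restriction to the complement of the fibre of a closed point. -/
theorem bijective_Hpull {k : Type u} [Field k] [IsAlgClosed k] {X₁ C : Scheme.{u}}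
    (a : X₁ ⟶ Spec (CommRingCat.of k)) (n : ℕ) (hn : 0 < n) [SmoothOfRelativeDimension n a]
    (x₁ : X₁) (hx₁ : IsClosed ({x₁} : Set X₁)) (ρ : X₁ ⟶ C)
    {ι : Type u} [Preorder ι] [IsDirected ι (· ≤ ·)] [Nonempty ι] (D : ιᵒᵖ ⥤ Over C)
    (hsm : ∀ i, Smooth (D.obj i).hom) (haff : ∀ ⦃a b : ιᵒᵖ⦄ (h : a ⟶ b), IsAffineHom (D.map h).left)
    (c : Cone (D ⋙ Over.forget C)) (hc : IsLimit c) (t : c.pt ⟶ C) (ht : ∀ i, c.π.app i ≫ (D.obj i).hom = t)
    (V : (pullback ρ t).Opens) (hV : ((V : Set ↥(pullback ρ t))ᶜ) = (pullback.fst ρ t).base ⁻¹' {x₁})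
    [PreservesFiniteLimits (EtCoh.pull V.ι)] (N : ℕ) (hN : (N : k) ≠ 0) (q : ℕ) (hq : q + 1 < 2 * n) :
    Function.Bijective (EtCore.Hpull V.ι ((EtCoh.pull (pullback.fst ρ t)).obj (EtCoh.const X₁ (ZMod N))) q) := by
  have hsma : Smooth a := SmoothOfRelativeDimension.smooth n a
  have hlf : LocallyOfFiniteType a := inferInstance
  have hnoeth : IsLocallyNoetherian X₁ := LocallyOfFiniteType.isLocallyNoetherian a
  let U₁ : X₁.Opens := ⟨({x₁} : Set X₁)ᶜ, hx₁.isOpen_compl⟩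
  have hVU : V = (pullback.fst ρ t) ⁻¹ᵁ U₁ := by
    apply TopologicalSpace.Opens.ext
    have h1 := congrArg compl hV
    rw [compl_compl] at h1
    rw [h1]
    rfl
  subst hVU
  obtain ⟨hu, hR⟩ := purity_point a n hn x₁ hx₁ U₁.ι (Scheme.Opens.range_ι U₁) N hN
  have hTI : EtPBC.IsTorsionInvertibleOn X₁ ((EtCoh.pull U₁.ι).obj (EtCoh.const X₁ (ZMod N))) := by
    intro U s x
    refine ⟨U, 𝟙 U, N, ⟨x, rfl⟩, isUnit_natCast a N hN, ?_⟩
    have h1 : EtCoh.KilledBy N ((EtCoh.pull U₁.ι).obj (EtCoh.const X₁ (ZMod N))) :=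
      EtpbcB.TorsionBasic.killedBy_map (EtCoh.pull U₁.ι) N _ (killedBy_const' X₁ N)
    exact h1 _ _
  have hqc : QuasiCompact U₁.ι := inferInstance
  have key := bijective_Hpull_of_bc U₁.ι (pullback.fst ρ t) ((pullback.fst ρ t) ⁻¹ᵁ U₁).ι
    ((pullback.fst ρ t) ∣_ U₁) (isPullback_morphismRestrict _ _) (EtCoh.const X₁ (ZMod N)) q
    (fun q => bc_of_limit ρ D hsm haff c hc t ht U₁.ι _ _ (isPullback_morphismRestrict _ _) _ hTI q) hu
    (fun r h1 h2 => hR r (by omega) (by omega))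
  exact key.1 q le_rfl

/-- (PUR) `H^q(P, ℤ/N) ≃ H^q(V, ℤ/N)` for `q + 1 < 2 n`. -/
theorem purity_card_of_smooth {k : Type u} [Field k] [IsAlgClosed k] {X₁ C : Scheme.{u}}
    (a : X₁ ⟶ Spec (CommRingCat.of k)) (n : ℕ) (hn : 0 < n) [SmoothOfRelativeDimension n a]
    (x₁ : X₁) (hx₁ : IsClosed ({x₁} : Set X₁)) (ρ : X₁ ⟶ C)
    {ι : Type u} [Preorder ι] [IsDirected ι (· ≤ ·)] [Nonempty ι] (D : ιᵒᵖ ⥤ Over C)
    (hsm : ∀ i, Smooth (D.obj i).hom) (haff : ∀ ⦃a b : ιᵒᵖ⦄ (h : a ⟶ b), IsAffineHom (D.map h).left)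
    (c : Cone (D ⋙ Over.forget C)) (hc : IsLimit c) (t : c.pt ⟶ C) (ht : ∀ i, c.π.app i ≫ (D.obj i).hom = t)
    (V : (pullback ρ t).Opens) (hV : ((V : Set ↥(pullback ρ t))ᶜ) = (pullback.fst ρ t).base ⁻¹' {x₁})
    (N : ℕ) (hN : (N : k) ≠ 0) (q : ℕ) (hq : q + 1 < 2 * n) :
    Nonempty (EtCoh.H (pullback ρ t) (EtCoh.const (pullback ρ t) (ZMod N)) q ≃+
      EtCoh.H (V : Scheme.{u}) (EtCoh.const (V : Scheme.{u}) (ZMod N)) q) := by
  have hfl : PreservesFiniteLimits (EtCoh.pull V.ι) := Groth.Agent.S0101.result V.ι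
  have hb := bijective_Hpull a n hn x₁ hx₁ ρ D hsm haff c hc t ht V hV N hN q hq
  exact ⟨((Sga4B.HTools.HCongr (EtCore.pullConst (pullback.fst ρ t) (ZMod N)).symm q).trans
    (AddEquiv.ofBijective _ hb)).trans
    (Sga4B.HTools.HCongr ((EtCoh.pull V.ι).mapIso (EtCore.pullConst (pullback.fst ρ t) (ZMod N)) ≪≫
      EtCore.pullConst V.ι (ZMod N)) q)⟩

/-- (PUR), the statement of subtask 689. -/
theorem purity_card (k : Type u) [Field k] [IsAlgClosed k] {X₁ C : Scheme.{u}} (a : X₁ ⟶ Spec (CommRingCat.of k))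
    (n : ℕ) (hn : 0 < n) [SmoothOfRelativeDimension n a] [QuasiCompact a] [QuasiSeparated a]
    (x₁ : X₁) (hx₁ : IsClosed ({x₁} : Set X₁))
    (ρ : X₁ ⟶ C)
    {ι : Type u} [Preorder ι] [IsDirected ι (· ≤ ·)] [Nonempty ι] (D : ιᵒᵖ ⥤ Over C)
    (hsm : ∀ i, Etale (D.obj i).hom) (haff : ∀ ⦃a b : ιᵒᵖ⦄ (h : a ⟶ b), IsAffineHom (D.map h).left)
    (c : Cone (D ⋙ Over.forget C)) (hc : IsLimit c) (t : c.pt ⟶ C) (ht : ∀ i, c.π.app i ≫ (D.obj i).hom = t)
    (V : (pullback ρ t).Opens) (hV : ((V : Set ↥(pullback ρ t))ᶜ) = (pullback.fst ρ t).base ⁻¹' {x₁})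
    (N : ℕ) (hN : (N : k) ≠ 0) (q : ℕ) (hq : q + 1 < 2 * n) :
    Nonempty (EtCoh.H (pullback ρ t) (EtCoh.const (pullback ρ t) (ZMod N)) q ≃+
      EtCoh.H (V : Scheme.{u}) (EtCoh.const (V : Scheme.{u}) (ZMod N)) q) :=
  purity_card_of_smooth a n hn x₁ hx₁ ρ D (fun i => have := hsm i; inferInstance) haff c hc t ht V hV N hN q hq

end Groth.Agent.Lefpen.H365.Pur
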